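/-
Certificates for the generation of a Chevalley group by two elements.
-/
import Cfsg.Agent.Lib.Lie.Rel.Inst
import Cfsg.Agent.Lib.Lie.Chev.All

set_option autoImplicit false

namespace CfsgLib.Lie.Chev.TwoGen

open Cfsg.Lie (ChevalleyDatum)

/-- kernel-friendly membership -/
def has (L : List ℕ) (r : ℕ) : Bool := L.any fun x => Nat.beq x r

theorem has_iff {L : List ℕ} {r : ℕ} : has L r = true ↔ r ∈ L := by
  simp only [has, List.any_eq_true]
  exact ⟨fun ⟨x, hx, e⟩ => Nat.eq_of_beq_eq_true e ▸ hx, fun h => ⟨r, h, Nat.beq_refl r⟩⟩

/-- a step of a certificate: kind, two arguments, new root -/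
abbrev Step := ℕ × ℕ × ℕ × ℕ

/-- the permutation of the roots given by a word -/
def wp (X : Aux) (word : List ℕ) (r : ℕ) : ℕ := word.foldr (fun i x => X.w i x) r

/-- pairing of a cocharacter with a root -/
def dot (D : ChevalleyDatum) (v : List ℤ) (r : ℕ) : ℤ :=
  ((List.range D.rank).map fun i => v.getD i 0 * D.cartan i r).sum

/-- `r` and `s` are different and not opposite roots -/
def indep (D : ChevalleyDatum) (r s : ℕ) : Bool :=
  Nat.blt r D.nroots && Nat.blt s D.nroots && !Nat.beq s r && !Nat.beq s (D.neg r)

/-- one term `i = e`, `C = ±1` at `c`, all others in `K` -/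
def linTerm (K : List ℕ) (c e : ℕ) (L : List (ℕ × ℤ × ℕ × ℕ)) : Bool :=
  L.any fun x => Nat.beq x.1 c && (decide (x.2.1 = 1) || decide (x.2.1 = -1)) && Nat.beq x.2.2.1 e &&
    Nat.beq (L.count x) 1 && L.all fun y => y == x || has K y.1

/-- one step over a field with at least three elements; state: full roots and unit roots -/
def step (D : ChevalleyDatum) (X : Aux) (word : List ℕ) (K U : List ℕ) : Step → Option (List ℕ × List ℕ)
  | (0, r, _, c) => if has K r && Nat.blt r D.nroots && Nat.beq (wp X word r) c then some (c :: K, U) else none
  | (1, r, _, c) => if has U r && Nat.blt r D.nroots && Nat.beq (wp X word r) c then some (K, c :: U) else none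
  | (2, r, s, c) => if has K r && (has K s || has U s) && indep D r s && linTerm K c 1 (D.commTerms r s)
      then some (c :: K, U) else none
  | (3, i, u, c) => if Nat.blt i D.rank && has K (D.simple i) && has K (D.neg (D.simple i)) && has U u &&
      Nat.blt u D.nroots && (decide (D.cartan i u = 1) || decide (D.cartan i u = -1)) && Nat.beq u c
      then some (c :: K, U) else none
  | (4, r, s, c) => if has K r && (has K s || has U s) && indep D r s && linTerm K c 2 (D.commTerms r s)
      then some (c :: K, U) else none
  | _ => none

/-- run the steps -/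
def run (D : ChevalleyDatum) (X : Aux) (word : List ℕ) : List ℕ → List ℕ → List Step → Bool
  | K, _, [] => (List.range D.nroots).all fun r => has K r
  | K, U, st :: rest => match step D X word K U st with
    | some (K', U') => run D X word K' U' rest
    | none => false

/-- certificate for a field with at least three elements -/
structure MainCert where
  word : List ℕ
  v : List ℤ
  s : ℕ
  l : Option ℕ
  steps : List Step

/-- checker -/
def MainCert.chk (d : MainCert) (D : ChevalleyDatum) (X : Aux) : Bool :=
  (d.word.all fun i => Nat.blt i D.rank) && Nat.blt d.s D.nroots &&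
    (d.l.toList.all fun l => Nat.blt l D.nroots && decide (dot D d.v l = 0)) &&
    (decide (dot D d.v d.s = 1) || decide (dot D d.v d.s = -1)) &&
    (decide (dot D d.v (wp X d.word.reverse d.s) = 1) || decide (dot D d.v (wp X d.word.reverse d.s) = -1)) &&
    run D X d.word [d.s] d.l.toList d.steps

/-- certificate for the field with two elements -/
structure TwoCert where
  word : List ℕ
  s : ℕ
  l : ℕ
  steps : List Step

/-- all terms but `c` are even or known -/
def oddTerm (f : ℕ → ℕ) (K : List ℕ) (c : ℕ) (L : List (ℕ × ℤ × ℕ × ℕ)) : Bool :=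
  L.any fun x => Nat.beq (f x.1) c && decide (x.2.1 % 2 = 1) &&
    Nat.beq (L.count x) 1 && L.all fun y => y == x || decide (y.2.1 % 2 = 0) || has K (f y.1)

/-- one step over the field with two elements -/
def TwoCert.step (d : TwoCert) (D : ChevalleyDatum) (X : Aux) (K : List ℕ) : Step → Option (List ℕ)
  | (0, r, _, c) => if has K r && has K d.s && Nat.blt r D.nroots && Nat.beq (wp X d.word r) c
      then some (c :: K) else none
  | (1, r, _, c) => if has K r && Nat.blt r D.nroots && indep D d.s (wp X d.word r) &&
      oddTerm id K c ((wp X d.word r, 1, 1, 1) :: D.commTerms d.s (wp X d.word r))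
      then some (c :: K) else none
  | (2, r, _, c) => if has K r && indep D d.s r &&
      ((r, (1 : ℤ), 1, 1) :: D.commTerms d.s r).all (fun y => Nat.blt y.1 D.nroots) &&
      oddTerm (wp X d.word.reverse) K c ((r, 1, 1, 1) :: D.commTerms d.s r)
      then some (c :: K) else none
  | (3, r, s, c) => if has K r && has K s && indep D r s && oddTerm id K c (D.commTerms r s)
      then some (c :: K) else none
  | _ => none

/-- run the steps -/
def TwoCert.run (d : TwoCert) (D : ChevalleyDatum) (X : Aux) : List ℕ → List Step → Bool
  | K, [] => (List.range D.nroots).all fun r => has K r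
  | K, st :: rest => match d.step D X K st with
    | some K' => d.run D X K' rest
    | none => false

/-- checker -/
def TwoCert.chk (d : TwoCert) (D : ChevalleyDatum) (X : Aux) : Bool :=
  (d.word.all fun i => Nat.blt i D.rank) && Nat.blt d.s D.nroots && d.run D X [d.l] d.steps

end CfsgLib.Lie.Chev.TwoGen
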