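/-
A certified Chevalley group over a finite field is generated by two elements.
-/
import Cfsg.Agent.Lib.Lie.TwoGen.Checks
import Mathlib.FieldTheory.Finite.Basic

set_option autoImplicit false

namespace CfsgLib.Lie.Chev

open Cfsg.Lie (ChevalleyDatum)

namespace TwoGen

/-- an element of a product lies in a subgroup if the product and all other factors do -/
theorem isolate {G α : Type*} [Group G] [BEq α] [LawfulBEq α] (H : Subgroup G) (f : α → G) (L : List α) (x : α)
    (hx : x ∈ L) (hc : L.count x = 1) (hprod : (L.map f).prod ∈ H) (ho : ∀ y ∈ L, y ≠ x → f y ∈ H) : f x ∈ H := by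
  obtain ⟨A, B, rfl⟩ := List.append_of_mem hx
  rw [List.count_append, List.count_cons_self] at hc
  have hA : x ∉ A := fun h => by have := List.count_pos_iff.2 h; omega
  have hB : x ∉ B := fun h => by have := List.count_pos_iff.2 h; omega
  rw [List.map_append, List.prod_append, List.map_cons, List.prod_cons] at hprod
  have h1 : (A.map f).prod ∈ H := by
    refine list_prod_mem fun z hz => ?_
    obtain ⟨y, hy, rfl⟩ := List.mem_map.1 hz
    exact ho y (List.mem_append.2 (Or.inl hy)) fun e => hA (e ▸ hy)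
  have h2 : (B.map f).prod ∈ H := by
    refine list_prod_mem fun z hz => ?_
    obtain ⟨y, hy, rfl⟩ := List.mem_map.1 hz
    exact ho y (List.mem_append.2 (Or.inr (List.mem_cons_of_mem _ hy))) fun e => hB (e ▸ hy)
  exact (Subgroup.mul_mem_cancel_right H h2).1 ((Subgroup.mul_mem_cancel_left H h1).1 hprod)

end TwoGen

open TwoGen

namespace Rel

variable {D : ChevalleyDatum} {X : Aux} {F : Type*} [Field F] {G : Type*} [Group G] (R : Rel D X F G)
include R

/-- the monomial element of a word in the simple reflections -/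
def nWord (word : List ℕ) : G := (word.map fun i => R.ne (D.simple i) 1).prod

theorem wp_lt {word : List ℕ} (hw : ∀ i ∈ word, i < D.rank) {r : ℕ} (hr : r < D.nroots) :
    wp X word r < D.nroots := by
  induction word with
  | nil => exact hr
  | cons i L ih => exact R.cert.w_lt (hw i (by simp)) (ih fun j hj => hw j (by simp [hj]))

theorem wp_wp_reverse {word : List ℕ} (hw : ∀ i ∈ word, i < D.rank) {r : ℕ} (hr : r < D.nroots) :
    wp X word (wp X word.reverse r) = r := by
  induction word generalizing r with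
  | nil => rfl
  | cons i L ih =>
    have hi : i < D.rank := hw i (by simp)
    have hL : ∀ j ∈ L, j < D.rank := fun j hj => hw j (by simp [hj])
    have e : wp X (i :: L).reverse r = wp X L.reverse (X.w i r) := by
      simp [wp, List.reverse_cons, List.foldr_append]
    rw [e]
    show X.w i (wp X L (wp X L.reverse (X.w i r))) = r
    rw [ih hL (R.cert.w_lt hi hr), R.cert.w_w hi hr]

/-- monomial action of a word -/
theorem nWord_conj {word : List ℕ} (hw : ∀ i ∈ word, i < D.rank) {r : ℕ} (hr : r < D.nroots) :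
    ∃ e : F, (e = 1 ∨ e = -1) ∧ ∀ t, R.nWord word * R.xe r t * (R.nWord word)⁻¹ = R.xe (wp X word r) (e * t) := by
  induction word with
  | nil => exact ⟨1, Or.inl rfl, fun t => by simp [nWord, wp]⟩
  | cons i L ih =>
    have hi : i < D.rank := hw i (by simp)
    have hL : ∀ j ∈ L, j < D.rank := fun j hj => hw j (by simp [hj])
    obtain ⟨e, he, h⟩ := ih hL
    have hlt := R.wp_lt hL hr
    refine ⟨(X.eta i (wp X L r) : F) * e, ?_, fun t => ?_⟩
    · have h2 : (X.eta i (wp X L r) : F) = 1 ∨ (X.eta i (wp X L r) : F) = -1 :=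
        mul_self_eq_one_iff.1 (X.eta_sq_cast (F := F) i _)
      rcases h2 with h2 | h2 <;> rcases he with he | he <;> simp [h2, he]
    · have h1 := R.nconj i (wp X L r) 1 (e * t) hi hlt one_ne_zero
      rw [one_zpow, mul_one, ← mul_assoc (X.eta i (wp X L r) : F)] at h1
      have e1 : R.nWord (i :: L) = R.ne (D.simple i) 1 * R.nWord L := by simp [nWord]
      rw [e1, show R.ne (D.simple i) 1 * R.nWord L * R.xe r t * (R.ne (D.simple i) 1 * R.nWord L)⁻¹ =
        R.ne (D.simple i) 1 * (R.nWord L * R.xe r t * (R.nWord L)⁻¹) * (R.ne (D.simple i) 1)⁻¹ by group, h t,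
        show R.ne (D.simple i) 1 * R.xe (wp X L r) (e * t) = _ from h1, mul_inv_cancel_right]
      rfl

/-- all root elements of `r` lie in `H` -/
def Full (H : Subgroup G) (r : ℕ) : Prop := ∀ t : F, R.xe r t ∈ H

/-- a signed unit root element of `r` lies in `H` -/
def UnitIn (H : Subgroup G) (r : ℕ) : Prop := ∃ e : F, (e = 1 ∨ e = -1) ∧ R.xe r e ∈ H

theorem UnitIn.one {H : Subgroup G} {r : ℕ} (h : R.UnitIn H r) : R.xe r 1 ∈ H := by
  obtain ⟨e, he | he, hm⟩ := h
  · rwa [he] at hm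
  · rw [he, R.xe_neg] at hm; exact inv_mem_iff.1 hm

theorem full_or_unit_one {H : Subgroup G} {K U : List ℕ} (hK : ∀ r ∈ K, R.Full H r) (hU : ∀ r ∈ U, R.UnitIn H r)
    {s : ℕ} (h : (has K s || has U s) = true) : R.xe s 1 ∈ H := by
  rw [Bool.or_eq_true, has_iff, has_iff] at h
  rcases h with h | h
  · exact hK s h 1
  · exact UnitIn.one R (hU s h)

theorem comm_prod_mem {H : Subgroup G} {r s : ℕ} (h : indep D r s = true) {t u : F} (hr : R.xe r t ∈ H)
    (hs : R.xe s u ∈ H) :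
    ((D.commTerms r s).map fun c => R.xe c.1 ((c.2.1 : F) * (-t) ^ c.2.2.1 * u ^ c.2.2.2)).prod ∈ H := by
  simp only [indep, Bool.and_eq_true, nat_blt_iff, Bool.not_eq_true'] at h
  obtain ⟨⟨⟨h1, h2⟩, h3⟩, h4⟩ := h
  have hc := R.xe_comm r s t u h1 h2 (fun e => by rw [e, Nat.beq_refl] at h3; cases h3)
    (fun e => by rw [e, Nat.beq_refl] at h4; cases h4)
  rw [ChevalleyDatum.commWord, List.map_map] at hc
  have h5 := mul_mem hs hr
  rw [hc] at h5
  exact (Subgroup.mul_mem_cancel_left H (mul_mem hr hs)).1 h5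

theorem full_of_linTerm {H : Subgroup G} {r s c e : ℕ} {K : List ℕ} (hK : ∀ r ∈ K, R.Full H r)
    (h : indep D r s = true) (hl : linTerm K c e (D.commTerms r s) = true) (hr : R.Full H r)
    (hs : R.xe s 1 ∈ H) : ∀ a : F, R.xe c (a ^ e) ∈ H := by
  intro a
  simp only [linTerm, List.any_eq_true, Bool.and_eq_true, Bool.or_eq_true, List.all_eq_true, decide_eq_true_iff] at hl
  obtain ⟨x, hx, ⟨⟨⟨hx1, hx2⟩, hx3⟩, hx4⟩, hx5⟩ := hl
  have h1 := isolate H _ _ x hx (Nat.eq_of_beq_eq_true hx4) (R.comm_prod_mem h (hr (-a)) hs) (fun y hy hne => by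
    rcases hx5 y hy with h6 | h6
    · exact absurd (eq_of_beq h6) hne
    · exact hK _ (has_iff.1 h6) _)
  rw [Nat.eq_of_beq_eq_true hx1, Nat.eq_of_beq_eq_true hx3, neg_neg, one_pow, mul_one] at h1
  rcases hx2 with h2 | h2
  · rwa [h2, Int.cast_one, one_mul] at h1
  · rw [h2, Int.cast_neg, Int.cast_one, neg_one_mul, R.xe_neg] at h1
    exact inv_mem_iff.1 h1

theorem full_of_sq [Finite F] {H : Subgroup G} {c : ℕ} (h : ∀ a : F, R.xe c (a ^ 2) ∈ H) : R.Full H c := by
  intro t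
  by_cases h2 : (2 : F) = 0
  · have hc : ringChar F = 2 := by
      have : CharP F 2 := CharTwo.of_one_ne_zero_of_two_eq_zero one_ne_zero h2
      exact ringChar.eq F 2
    have : Fintype F := Fintype.ofFinite F
    obtain ⟨b, hb⟩ := FiniteField.isSquare_of_char_two hc t
    rw [hb, ← sq]; exact h b
  · rw [show t = ((t + 1) / 2) ^ 2 + -(((t - 1) / 2) ^ 2) by field_simp; ring, ← R.xe_add', R.xe_neg]
    exact mul_mem (h _) (inv_mem (h _))

/-- the invariant is preserved by a step -/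
theorem step_spec [Finite F] {H : Subgroup G} {word : List ℕ} (hw : ∀ i ∈ word, i < D.rank)
    (hn : R.nWord word ∈ H) {K U K' U' : List ℕ} {st : Step} (e : TwoGen.step D X word K U st = some (K', U'))
    (hK : ∀ r ∈ K, R.Full H r) (hU : ∀ r ∈ U, R.UnitIn H r) :
    (∀ r ∈ K', R.Full H r) ∧ ∀ r ∈ U', R.UnitIn H r := by
  have cons : ∀ c, R.Full H c → ∀ r ∈ c :: K, R.Full H r := fun c hc r hr => by
    rcases List.mem_cons.1 hr with rfl | hr
    · exact hc
    · exact hK r hr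
  obtain ⟨k, r, s, c⟩ := st
  unfold TwoGen.step at e
  split at e <;> rename_i heq <;> try (cases e; done)
  all_goals
    cases heq
    split at e <;> rename_i hc <;> cases e
    simp only [Bool.and_eq_true, nat_blt_iff] at hc
  · obtain ⟨⟨h1, h2⟩, h3⟩ := hc
    refine ⟨cons c fun t => ?_, hU⟩
    obtain ⟨e', he', h⟩ := R.nWord_conj hw h2
    have hm := mul_mem (mul_mem hn (hK r (has_iff.1 h1) (e'⁻¹ * t))) (inv_mem hn)
    rw [h, Nat.eq_of_beq_eq_true h3] at hm
    rcases he' with rfl | rfl <;> simpa using hm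
  · obtain ⟨⟨h1, h2⟩, h3⟩ := hc
    refine ⟨hK, fun x hx => ?_⟩
    rcases List.mem_cons.1 hx with rfl | hx
    · obtain ⟨e', he', h⟩ := R.nWord_conj hw h2
      have hm := mul_mem (mul_mem hn (UnitIn.one R (hU r (has_iff.1 h1)))) (inv_mem hn)
      rw [h, Nat.eq_of_beq_eq_true h3, mul_one] at hm
      exact ⟨e', he', hm⟩
    · exact hU x hx
  · obtain ⟨⟨⟨h1, h2⟩, h3⟩, h4⟩ := hc
    refine ⟨cons c fun t => ?_, hU⟩
    have := R.full_of_linTerm hK h3 h4 (hK r (has_iff.1 h1)) (R.full_or_unit_one hK hU h2) t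
    rwa [pow_one] at this
  · obtain ⟨⟨⟨⟨⟨⟨h1, h2⟩, h3⟩, h4⟩, h5⟩, h6⟩, h7⟩ := hc
    rw [← Nat.eq_of_beq_eq_true h7]
    refine ⟨cons s fun t => ?_, hU⟩
    have hx := UnitIn.one R (hU s (has_iff.1 h4))
    have hne : ∀ z : F, R.ne (D.simple r) z ∈ H := fun z =>
      mul_mem (mul_mem (hK _ (has_iff.1 h2) z) (hK _ (has_iff.1 h3) _)) (hK _ (has_iff.1 h2) z)
    by_cases ht : t = 0
    · rw [ht, R.xe_zero]; exact one_mem _
    simp only [Bool.or_eq_true, decide_eq_true_iff] at h6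
    rcases h6 with h6 | h6
    · have h := (R.isMon_he_simple ⟨r, h1⟩ ht ⟨s, h5⟩).2.2.2 1
      simp only [Equiv.Perm.one_apply, h6, zpow_one, mul_one] at h
      rw [← h]
      exact mul_mem (mul_mem (mul_mem (hne t) (hne (-1))) hx) (inv_mem (mul_mem (hne t) (hne (-1))))
    · have h := (R.isMon_he_simple ⟨r, h1⟩ (inv_ne_zero ht) ⟨s, h5⟩).2.2.2 1
      simp only [Equiv.Perm.one_apply, h6, zpow_neg, zpow_one, inv_inv, mul_one] at h
      rw [← h]
      exact mul_mem (mul_mem (mul_mem (hne t⁻¹) (hne (-1))) hx) (inv_mem (mul_mem (hne t⁻¹) (hne (-1))))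
  · obtain ⟨⟨⟨h1, h2⟩, h3⟩, h4⟩ := hc
    exact ⟨cons c (R.full_of_sq (R.full_of_linTerm hK h3 h4 (hK r (has_iff.1 h1))
      (R.full_or_unit_one hK hU h2))), hU⟩

theorem eq_top_of_full {H : Subgroup G} (h : ∀ r < D.nroots, R.Full H r) : H = ⊤ := by
  rw [eq_top_iff, ← R.gen, Subgroup.closure_le]
  rintro _ ⟨r, t, rfl⟩
  by_cases hr : r < D.nroots
  · exact h r hr t
  · rw [R.xe_oob r t hr]; exact one_mem _

theorem run_spec [Finite F] {H : Subgroup G} {word : List ℕ} (hw : ∀ i ∈ word, i < D.rank)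
    (hn : R.nWord word ∈ H) : ∀ (steps : List Step) (K U : List ℕ),
      TwoGen.run D X word K U steps = true → (∀ r ∈ K, R.Full H r) → (∀ r ∈ U, R.UnitIn H r) → H = ⊤
  | [], K, U, e, hK, _ => R.eq_top_of_full fun r hr => by
      simp only [TwoGen.run, List.all_eq_true, List.mem_range] at e
      exact hK r (has_iff.1 (e r hr))
  | st :: rest, K, U, e, hK, hU => by
      rw [TwoGen.run] at e
      split at e
      · next K' U' h =>
        obtain ⟨h1, h2⟩ := R.step_spec hw hn h hK hU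
        exact run_spec hw hn rest K' U' e h1 h2
      · cases e

/-- cocharacters -/
theorem exists_cochar (z : F) (hz : z ≠ 0) (v : List ℤ) :
    ∃ h, h ∈ R.HS ∧ (∀ r : Fin D.nroots, ∀ t, h * R.xe r t * h⁻¹ = R.xe r (z ^ dot D v r * t)) := by
  suffices key : ∀ L : List ℕ, (∀ i ∈ L, i < D.rank) → ∃ h, h ∈ R.HS ∧ (∀ r : Fin D.nroots, ∀ t,
      h * R.xe r t * h⁻¹ = R.xe r (z ^ (L.map fun i => v.getD i 0 * D.cartan i r).sum * t)) from
    key (List.range D.rank) fun i hi => List.mem_range.1 hi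
  intro L
  induction L with
  | nil => exact fun _ => ⟨1, one_mem _, fun r t => by simp⟩
  | cons i L ih =>
    intro hL
    obtain ⟨h, hh, hc⟩ := ih fun j hj => hL j (by simp [hj])
    have hzi : z ^ v.getD i 0 ≠ 0 := zpow_ne_zero _ hz
    have hi : i < D.rank := hL i (by simp)
    refine ⟨R.he (D.simple i) (z ^ v.getD i 0) * h, mul_mem (R.he_mem_HS ⟨i, hi⟩ hzi) hh, fun r t => ?_⟩
    rw [show R.he (D.simple i) (z ^ v.getD i 0) * h * R.xe r t * (R.he (D.simple i) (z ^ v.getD i 0) * h)⁻¹ =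
      R.he (D.simple i) (z ^ v.getD i 0) * (h * R.xe r t * h⁻¹) * (R.he (D.simple i) (z ^ v.getD i 0))⁻¹ by group,
      hc r t]
    have h3 := (R.isMon_he_simple ⟨i, hi⟩ hzi r).2.2.2 (z ^ (L.map fun i => v.getD i 0 * D.cartan i r).sum * t)
    simp only [Equiv.Perm.one_apply] at h3
    rw [h3, List.map_cons, List.sum_cons, zpow_add₀ hz, zpow_mul, mul_assoc]

/-- the exponent of the torus -/
theorem pow_eq_one_of_mem_HS [Fintype F] {h : G} (hh : h ∈ R.HS) : h ^ (Fintype.card F - 1) = 1 := by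
  induction hh using Subgroup.closure_induction with
  | mem x hx =>
    obtain ⟨i, c, hc, rfl⟩ := hx
    have key : ∀ k : ℕ, R.he (D.simple i) c ^ k = R.he (D.simple i) (c ^ k) := by
      intro k
      induction k with
      | zero => rw [pow_zero, pow_zero, R.he_one]
      | succ k ih => rw [pow_succ, ih, R.hmul' i i.2 (pow_ne_zero _ hc) hc, pow_succ]
    rw [key, FiniteField.pow_card_sub_one_eq_one c hc, R.he_one]
  | one => exact one_pow _
  | mul x y hx hy h1 h2 =>
    rw [Commute.mul_pow (show Commute x y from R.HS_isMulCommutative hx hy), h1, h2, one_mul]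
  | inv x _ h1 => rw [inv_pow, h1, inv_one]

theorem xe_npow (r : ℕ) (t : F) (k : ℕ) : R.xe r t ^ k = R.xe r (k * t) := by
  induction k with
  | zero => rw [pow_zero, Nat.cast_zero, zero_mul, R.xe_zero]
  | succ k ih => rw [pow_succ, ih, R.xe_add', Nat.cast_succ, add_mul, one_mul]

/-- generation by two elements over a field with at least three elements -/
theorem two_gen_main [Finite F] (d : MainCert) (hd : d.chk D X = true) (hF : ∃ x : F, x ≠ 0 ∧ x ≠ 1) :
    ∃ a b : G, Subgroup.closure ({a, b} : Set G) = ⊤ := by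
  classical
  have : Fintype F := Fintype.ofFinite F
  simp only [MainCert.chk, Bool.and_eq_true, List.all_eq_true, nat_blt_iff, Bool.or_eq_true,
    decide_eq_true_iff] at hd
  obtain ⟨⟨⟨⟨⟨hw, hs⟩, hl⟩, hvs⟩, hvs'⟩, hrun⟩ := hd
  obtain ⟨g, hg⟩ := IsCyclic.exists_generator (α := Fˣ)
  have hg1 : (g : F) ≠ 1 := by
    intro e
    obtain ⟨x, hx, hx1⟩ := hF
    obtain ⟨k, hk⟩ := Subgroup.mem_zpowers_iff.1 (hg (Units.mk0 x hx))
    rw [Units.val_eq_one.1 e, one_zpow] at hk
    exact hx1 (by simpa using (congrArg Units.val hk).symm)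
  have hpm : ∀ k : ℤ, k = 1 ∨ k = -1 → (g : F) ^ k ≠ 1 := by
    rintro k (rfl | rfl)
    · rwa [zpow_one]
    · rwa [zpow_neg, zpow_one, Ne, inv_eq_one]
  obtain ⟨h, hhS, hh⟩ := R.exists_cochar (g : F) g.ne_zero d.v
  generalize hb : R.xe d.s 1 * R.nWord d.word = b
  -- the first generator
  obtain ⟨a, ha⟩ : ∃ a : G, ∀ H : Subgroup G, a ∈ H → h ∈ H ∧ ∀ l ∈ d.l.toList, R.UnitIn H l := by
    cases hl' : d.l with
    | none => exact ⟨h, fun H ha => ⟨ha, by simp⟩⟩
    | some l =>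
      have hl2 := hl l (by simp [hl'])
      have hc : Commute h (R.xe l 1) := mul_inv_eq_iff_eq_mul.1 (by
        have := hh ⟨l, hl2.1⟩ 1
        simp only [hl2.2, zpow_zero, mul_one] at this
        exact this)
      refine ⟨h * R.xe l 1, fun H ha => ?_⟩
      have h2 := pow_mem ha (Fintype.card F - 1)
      rw [hc.mul_pow, R.pow_eq_one_of_mem_HS hhS, one_mul, R.xe_npow, mul_one,
        Nat.cast_sub Fintype.card_pos, FiniteField.cast_card_eq_zero, Nat.cast_one, zero_sub] at h2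
      refine ⟨?_, fun x hx => ⟨-1, Or.inr rfl, ?_⟩⟩
      · have h3 := mul_mem ha h2
        rwa [mul_assoc, R.xe_add', add_neg_cancel, R.xe_zero, mul_one] at h3
      · obtain rfl : x = l := by simpa using hx
        exact h2
  refine ⟨a, b, ?_⟩
  generalize hH : Subgroup.closure ({a, b} : Set G) = H
  obtain ⟨hhH, hU⟩ := ha H (hH ▸ Subgroup.subset_closure (by simp))
  have hbH : b ∈ H := hH ▸ Subgroup.subset_closure (by simp)
  -- conjugation by the second generator
  have hsr : wp X d.word.reverse d.s < D.nroots := R.wp_lt (fun i hi => hw i (List.mem_reverse.1 hi)) hs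
  generalize hdef : wp X d.word.reverse d.s = s' at hvs' hsr
  obtain ⟨e, he, hn⟩ := R.nWord_conj hw hsr
  rw [← hdef, R.wp_wp_reverse hw hs, hdef] at hn
  have he0 : e * e = 1 := by rcases he with rfl | rfl <;> simp
  generalize hy : b * h * b⁻¹ = y
  have hyH : y ∈ H := hy ▸ mul_mem (mul_mem hbH hhH) (inv_mem hbH)
  generalize hn' : R.nWord d.word = n at hn hb
  generalize hk : (g : F) ^ dot D d.v s' = k
  have hk1 : k ≠ 1 := hk ▸ hpm _ hvs'
  have hh' := hh ⟨s', hsr⟩
  have hcs : ∀ t, (n * h * n⁻¹) * R.xe d.s t * (n * h * n⁻¹)⁻¹ = R.xe d.s (k * t) := by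
    intro t
    have e1 : n⁻¹ * R.xe d.s t * n = R.xe s' (e * t) := by
      have := hn (e * t)
      rw [← mul_assoc, he0, one_mul] at this
      rw [← this]; group
    rw [show (n * h * n⁻¹) * R.xe d.s t * (n * h * n⁻¹)⁻¹ = n * (h * (n⁻¹ * R.xe d.s t * n) * h⁻¹) * n⁻¹ by group,
      e1, show h * R.xe s' (e * t) * h⁻¹ = _ from hh' (e * t), hn, hk]
    congr 1
    linear_combination (k * t) * he0
  have hnh : n * h * n⁻¹ ∈ R.HS := by
    have hnN : n ∈ R.NS := by
      rw [← hn']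
      refine list_prod_mem fun z hz => ?_
      obtain ⟨i, hi, rfl⟩ := List.mem_map.1 hz
      exact Subgroup.mem_sup_right (R.ne_mem_Nw ⟨i, hw i hi⟩)
    exact (Subgroup.mem_normalizer_iff.1 (R.NS_le_normalizer_HS hnN) h).1 hhS
  have hy2 : y = R.xe d.s (1 - k) * (n * h * n⁻¹) := by
    have h1 := hcs (-1)
    rw [← hy, ← hb, show R.xe d.s 1 * n * h * (R.xe d.s 1 * n)⁻¹ =
      R.xe d.s 1 * ((n * h * n⁻¹) * (R.xe d.s 1)⁻¹ * (n * h * n⁻¹)⁻¹) * (n * h * n⁻¹) by group, ← R.xe_neg, h1,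
      R.xe_add', mul_neg_one, ← sub_eq_add_neg]
  have hhs := hh ⟨d.s, hs⟩
  generalize hcdef : (g : F) ^ dot D d.v d.s = c at hhs
  have hc0 : c ≠ 0 := hcdef ▸ zpow_ne_zero _ g.ne_zero
  have hc1 : c ≠ 1 := hcdef ▸ hpm _ hvs
  have hx0 : R.xe d.s ((c - 1) * (1 - k)) ∈ H := by
    have h1 := mul_mem (mul_mem (mul_mem hhH hyH) (inv_mem hhH)) (inv_mem hyH)
    have h2 : h * (n * h * n⁻¹) * h⁻¹ = n * h * n⁻¹ := by
      rw [R.HS_isMulCommutative hhS hnh, mul_inv_cancel_right]
    rw [hy2, show h * (R.xe d.s (1 - k) * (n * h * n⁻¹)) * h⁻¹ * (R.xe d.s (1 - k) * (n * h * n⁻¹))⁻¹ =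
      (h * R.xe d.s (1 - k) * h⁻¹) * (h * (n * h * n⁻¹) * h⁻¹) * (n * h * n⁻¹)⁻¹ * (R.xe d.s (1 - k))⁻¹ by group,
      h2, mul_inv_cancel_right, show h * R.xe d.s (1 - k) * h⁻¹ = _ from hhs (1 - k), ← R.xe_neg,
      R.xe_add'] at h1
    convert h1 using 2
    ring
  generalize hu : (c - 1) * (1 - k) = u at hx0
  have hu0 : u ≠ 0 := hu ▸ mul_ne_zero (sub_ne_zero.2 hc1) (sub_ne_zero.2 (Ne.symm hk1))
  have hfull : R.Full H d.s := by
    have hpow : ∀ j : ℕ, R.xe d.s (c ^ j * u) ∈ H := by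
      intro j
      induction j with
      | zero => simpa using hx0
      | succ j ih =>
        have := mul_mem (mul_mem hhH ih) (inv_mem hhH)
        rw [show h * R.xe d.s (c ^ j * u) * h⁻¹ = _ from hhs _, ← mul_assoc, ← pow_succ'] at this
        exact this
    intro t
    by_cases ht : t = 0
    · rw [ht, R.xe_zero]; exact one_mem _
    have hcg : ∀ w : Fˣ, ∃ j : ℕ, (w : F) = c ^ j := by
      intro w
      obtain ⟨j, hj⟩ := (isOfFinOrder_of_finite g).mem_powers_iff_mem_zpowers.2 (hg w)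
      simp only at hj
      rcases hvs with hv | hv <;> rw [hv] at hcdef
      · exact ⟨j, by rw [← hj, ← hcdef, zpow_one, Units.val_pow_eq_pow_val]⟩
      · obtain ⟨i, hi⟩ := (isOfFinOrder_of_finite g).mem_powers_iff_mem_zpowers.2 (hg w⁻¹)
        simp only at hi
        refine ⟨i, ?_⟩
        rw [← hcdef, zpow_neg, zpow_one, inv_pow, ← Units.val_pow_eq_pow_val, hi, Units.val_inv_eq_inv_val,
          inv_inv]
    obtain ⟨j, hj⟩ := hcg (Units.mk0 (t / u) (div_ne_zero ht hu0))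
    rw [Units.val_mk0] at hj
    have := hpow j
    rwa [← hj, div_mul_cancel₀ _ hu0] at this
  have hnH : R.nWord d.word ∈ H := by
    have := mul_mem (inv_mem (hfull 1)) hbH
    rwa [← hb, inv_mul_cancel_left, ← hn'] at this
  exact R.run_spec hw hnH d.steps [d.s] d.l.toList hrun (fun r hr => by simp at hr; exact hr ▸ hfull) hU

/-- only two scalars -/
theorem two_scalars (hF : ∀ x : F, x = 0 ∨ x = 1) {H : Subgroup G} {r : ℕ} (h : R.xe r 1 ∈ H) : R.Full H r := by
  intro t
  rcases hF t with rfl | rfl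
  · rw [R.xe_zero]; exact one_mem _
  · exact h

theorem oddTerm_spec (hF : ∀ x : F, x = 0 ∨ x = 1) {H : Subgroup G} {f : ℕ → ℕ} {K : List ℕ} {c : ℕ}
    {L : List (ℕ × ℤ × ℕ × ℕ)} (hK : ∀ r ∈ K, R.Full H r) (hl : oddTerm f K c L = true)
    (hp : (L.map fun y => R.xe (f y.1) (y.2.1 : F)).prod ∈ H) : R.Full H c := by
  have h2 : (2 : F) = 0 := by
    rcases hF (1 + 1) with h | h
    · rw [← h]; norm_num
    · exact absurd (add_eq_left.1 h) one_ne_zero
  simp only [oddTerm, List.any_eq_true, Bool.and_eq_true, Bool.or_eq_true, List.all_eq_true, decide_eq_true_iff] at hl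
  obtain ⟨x, hx, ⟨⟨hx1, hx2⟩, hx4⟩, hx5⟩ := hl
  have h1 := isolate H _ _ x hx (Nat.eq_of_beq_eq_true hx4) hp (fun y hy hne => by
    rcases hx5 y hy with (h6 | h6) | h6
    · exact absurd (eq_of_beq h6) hne
    · obtain ⟨m, hm⟩ : ∃ m, y.2.1 = 2 * m := ⟨y.2.1 / 2, by omega⟩
      rw [hm, Int.cast_mul, Int.cast_ofNat, h2, zero_mul, R.xe_zero]; exact one_mem _
    · exact hK _ (has_iff.1 h6) _)
  obtain ⟨m, hm⟩ : ∃ m, x.2.1 = 2 * m + 1 := ⟨x.2.1 / 2, by omega⟩
  rw [Nat.eq_of_beq_eq_true hx1, hm, Int.cast_add, Int.cast_mul, Int.cast_ofNat, h2, zero_mul, zero_add,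
    Int.cast_one] at h1
  exact R.two_scalars hF h1

theorem twoStep_spec (hF : ∀ x : F, x = 0 ∨ x = 1) {H : Subgroup G} (d : TwoCert)
    (hw : ∀ i ∈ d.word, i < D.rank) (hb : R.xe d.s 1 * R.nWord d.word ∈ H) {K K' : List ℕ} {st : Step}
    (e : d.step D X K st = some K') (hK : ∀ r ∈ K, R.Full H r) : ∀ r ∈ K', R.Full H r := by
  have cons : ∀ c, R.Full H c → ∀ r ∈ c :: K, R.Full H r := fun c hc r hr => by
    rcases List.mem_cons.1 hr with rfl | hr
    · exact hc
    · exact hK r hr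
  have hone : ∀ {x : F}, x ≠ 0 → x = 1 := fun {x} hx => (hF x).resolve_left hx
  have hneg : (-1 : F) = 1 := hone (by norm_num)
  have hsign : ∀ {x : F}, x = 1 ∨ x = -1 → x = 1 := fun {x} hx => hx.elim id (fun h => h.trans hneg)
  -- `xs · xr · xs` as a product
  have hcw : ∀ {r : ℕ}, indep D d.s r = true → R.xe d.s 1 * R.xe r 1 * R.xe d.s 1 =
      (((r, (1 : ℤ), 1, 1) :: D.commTerms d.s r).map fun y => R.xe y.1 (y.2.1 : F)).prod := by
    intro r h
    simp only [indep, Bool.and_eq_true, nat_blt_iff, Bool.not_eq_true'] at h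
    obtain ⟨⟨⟨h1, h2⟩, h3⟩, h4⟩ := h
    have hc := R.xe_comm d.s r 1 1 h1 h2 (fun e => by rw [e, Nat.beq_refl] at h3; cases h3)
      (fun e => by rw [e, Nat.beq_refl] at h4; cases h4)
    rw [ChevalleyDatum.commWord, List.map_map] at hc
    simp only [Function.comp_def, hneg, one_pow, mul_one] at hc
    have hx : R.xe d.s 1 * R.xe d.s 1 = 1 := by
      conv_lhs => arg 2; rw [← hneg]
      rw [R.xe_add', add_neg_cancel, R.xe_zero]
    have hinv : (R.xe d.s 1)⁻¹ = R.xe d.s 1 := inv_eq_of_mul_eq_one_right hx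
    rw [List.map_cons, List.prod_cons, Int.cast_one]
    conv_lhs => rw [mul_assoc, hc]
    rw [← mul_assoc, ← mul_assoc, hx, one_mul]
  obtain ⟨k, r, s, c⟩ := st
  unfold TwoCert.step at e
  split at e <;> rename_i heq <;> try (cases e; done)
  all_goals
    cases heq
    split at e <;> rename_i hc <;> cases e
    simp only [Bool.and_eq_true, nat_blt_iff] at hc
  · obtain ⟨⟨⟨h1, h2⟩, h3⟩, h4⟩ := hc
    obtain ⟨e', he', h⟩ := R.nWord_conj hw h3
    have hn := (Subgroup.mul_mem_cancel_left H (hK d.s (has_iff.1 h2) 1)).1 hb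
    have hm := mul_mem (mul_mem hn (hK r (has_iff.1 h1) 1)) (inv_mem hn)
    rw [h, Nat.eq_of_beq_eq_true h4, hsign he', mul_one] at hm
    exact cons c (R.two_scalars hF hm)
  · obtain ⟨⟨⟨h1, h2⟩, h3⟩, h4⟩ := hc
    refine cons c (R.oddTerm_spec hF hK h4 ?_)
    obtain ⟨e', he', h⟩ := R.nWord_conj hw h2
    have hm := mul_mem (mul_mem hb (hK r (has_iff.1 h1) 1)) (inv_mem hb)
    have hxs : (R.xe d.s 1)⁻¹ = R.xe d.s 1 := by rw [← R.xe_neg, hneg]
    rw [show R.xe d.s 1 * R.nWord d.word * R.xe r 1 * (R.xe d.s 1 * R.nWord d.word)⁻¹ =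
      R.xe d.s 1 * (R.nWord d.word * R.xe r 1 * (R.nWord d.word)⁻¹) * (R.xe d.s 1)⁻¹ by group, h, hsign he',
      mul_one, hxs, hcw h3] at hm
    exact hm
  · obtain ⟨⟨⟨h1, h3⟩, hall⟩, h4⟩ := hc
    refine cons c (R.oddTerm_spec hF hK h4 ?_)
    have hm := mul_mem (mul_mem (inv_mem hb) (hK r (has_iff.1 h1) 1)) hb
    have hxs : (R.xe d.s 1)⁻¹ = R.xe d.s 1 := by rw [← R.xe_neg, hneg]
    rw [show (R.xe d.s 1 * R.nWord d.word)⁻¹ * R.xe r 1 * (R.xe d.s 1 * R.nWord d.word) =
      (R.nWord d.word)⁻¹ * ((R.xe d.s 1)⁻¹ * R.xe r 1 * R.xe d.s 1) * R.nWord d.word by group, hxs, hcw h3] at hm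
    simp only [List.all_eq_true, nat_blt_iff] at hall
    suffices key : ∀ M : List (ℕ × ℤ × ℕ × ℕ), (∀ y ∈ M, y.1 < D.nroots) →
        (R.nWord d.word)⁻¹ * (M.map fun y => R.xe y.1 (y.2.1 : F)).prod * R.nWord d.word =
          (M.map fun y => R.xe (wp X d.word.reverse y.1) (y.2.1 : F)).prod by
      rwa [key _ hall] at hm
    intro M
    induction M with
    | nil => intro; simp
    | cons y M ih =>
      intro hM
      have hy := R.wp_lt (fun i hi => hw i (List.mem_reverse.1 hi)) (hM y (by simp))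
      obtain ⟨e', he', h⟩ := R.nWord_conj hw hy
      rw [R.wp_wp_reverse hw (hM y (by simp))] at h
      have h5 := h (y.2.1 : F)
      rw [hsign he', one_mul] at h5
      rw [List.map_cons, List.prod_cons, List.map_cons, List.prod_cons, ← ih (fun z hz => hM z (by simp [hz])),
        ← h5]
      group
  · obtain ⟨⟨⟨h1, h2⟩, h3⟩, h4⟩ := hc
    refine cons c (R.oddTerm_spec hF hK h4 ?_)
    have := R.comm_prod_mem h3 (hK r (has_iff.1 h1) 1) (hK s (has_iff.1 h2) 1)
    simpa only [hneg, one_pow, mul_one, id_eq] using this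

theorem twoRun_spec (hF : ∀ x : F, x = 0 ∨ x = 1) {H : Subgroup G} (d : TwoCert)
    (hw : ∀ i ∈ d.word, i < D.rank) (hb : R.xe d.s 1 * R.nWord d.word ∈ H) : ∀ (steps : List Step) (K : List ℕ),
      d.run D X K steps = true → (∀ r ∈ K, R.Full H r) → H = ⊤
  | [], K, e, hK => R.eq_top_of_full fun r hr => by
      simp only [TwoCert.run, List.all_eq_true, List.mem_range] at e
      exact hK r (has_iff.1 (e r hr))
  | st :: rest, K, e, hK => by
      rw [TwoCert.run] at e
      split at e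
      · next K' h => exact twoRun_spec hF d hw hb rest K' e (R.twoStep_spec hF d hw hb h hK)
      · cases e

/-- generation by two elements over the field with two elements -/
theorem two_gen_two (d : TwoCert) (hd : d.chk D X = true) (hF : ∀ x : F, x = 0 ∨ x = 1) :
    ∃ a b : G, Subgroup.closure ({a, b} : Set G) = ⊤ := by
  simp only [TwoCert.chk, Bool.and_eq_true, List.all_eq_true, nat_blt_iff] at hd
  obtain ⟨⟨hw, -⟩, hrun⟩ := hd
  refine ⟨R.xe d.l 1, R.xe d.s 1 * R.nWord d.word, ?_⟩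
  refine R.twoRun_spec hF d hw (Subgroup.subset_closure (by simp)) d.steps [d.l] hrun fun r hr => ?_
  obtain rfl : r = d.l := by simpa using hr
  exact R.two_scalars hF (Subgroup.subset_closure (by simp))

end Rel

end CfsgLib.Lie.Chev
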