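/-
Data of the two-generation certificates (found by a closure search).
-/
import Cfsg.Agent.Lib.Lie.TwoGen.Checks

set_option autoImplicit false

namespace CfsgLib.Lie.Chev.TwoGen

open Cfsg.Lie

/-- two-generation data of `chevG2` -/
def mainG2 : MainCert where
  word := [0, 1]
  v := [0, 1]
  s := 0
  l := some 2
  steps := [(0, 0, 0, 5), (0, 5, 0, 10), (0, 10, 0, 11), (0, 11, 0, 6), (0, 6, 0, 1), (1, 2, 0, 3), (1, 3, 0, 7),
    (1, 7, 0, 9), (1, 9, 0, 8), (1, 8, 0, 4), (3, 1, 3, 3), (3, 1, 4, 4), (3, 1, 7, 7), (3, 0, 8, 8), (3, 0, 9, 9),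
    (2, 0, 8, 2)]

/-- two-generation data of `chevB2` -/
def mainB2 : MainCert where
  word := [0, 1]
  v := [0, 1]
  s := 1
  l := some 0
  steps := [(0, 1, 0, 5), (0, 5, 0, 6), (0, 6, 0, 2), (1, 0, 0, 3), (1, 3, 0, 7), (1, 7, 0, 4), (4, 1, 4, 0), (4, 1,
    7, 3), (4, 2, 7, 4), (2, 3, 6, 7)]

/-- two-generation data of `chevD4` -/
def mainD4 : MainCert where
  word := [0, 1, 2, 3]
  v := [1, 0, 0, 0]
  s := 1
  l := some 10
  steps := [(0, 1, 0, 18), (0, 18, 0, 14), (0, 14, 0, 22), (0, 22, 0, 5), (0, 5, 0, 9), (1, 10, 0, 21), (1, 21, 0,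
    15), (1, 15, 0, 13), (1, 13, 0, 2), (1, 2, 0, 8), (3, 0, 2, 2), (3, 0, 8, 8), (3, 1, 10, 10), (3, 1, 13, 13),
    (3, 0, 15, 15), (3, 0, 21, 21), (2, 1, 9, 0), (2, 1, 13, 3), (2, 1, 18, 6), (2, 1, 21, 11), (2, 2, 13, 4), (2,
    2, 18, 7), (2, 2, 22, 12), (2, 5, 21, 16), (2, 5, 22, 17), (2, 10, 21, 19), (2, 10, 22, 20), (2, 14, 22, 23)]

/-- two-generation data of `chevD4` over two elements -/
def twoD4 : TwoCert where
  word := [0, 1, 2, 3]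
  s := 2
  l := 1
  steps := [(2, 1, 0, 9), (3, 1, 9, 0), (1, 0, 0, 6), (2, 0, 0, 4), (2, 9, 0, 5), (2, 4, 0, 17), (2, 5, 0, 22), (3,
    6, 22, 18), (1, 1, 0, 7), (2, 17, 0, 23), (1, 18, 0, 14), (2, 18, 0, 3), (2, 22, 0, 16), (3, 3, 18, 8), (3, 3,
    22, 13), (3, 5, 7, 2), (3, 6, 16, 11), (3, 6, 23, 19), (3, 7, 14, 10), (3, 7, 17, 12), (3, 7, 23, 20), (3, 14,
    12, 15), (3, 16, 18, 21)]

/-- two-generation data of `chevF4` -/
def mainF4 : MainCert where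
  word := [0, 1, 2, 3]
  v := [0, 0, 0, 1]
  s := 0
  l := some 3
  steps := [(0, 0, 0, 15), (0, 15, 0, 21), (0, 21, 0, 41), (0, 41, 0, 45), (0, 45, 0, 46), (0, 46, 0, 47), (0, 47,
    0, 32), (0, 32, 0, 26), (0, 26, 0, 6), (0, 6, 0, 2), (0, 2, 0, 1), (1, 3, 0, 7), (1, 7, 0, 8), (1, 8, 0, 18),
    (1, 18, 0, 34), (1, 34, 0, 37), (1, 37, 0, 44), (1, 44, 0, 40), (1, 40, 0, 39), (1, 39, 0, 29), (1, 29, 0, 13),
    (1, 13, 0, 10), (2, 0, 29, 3), (2, 0, 32, 5), (2, 0, 44, 18), (2, 0, 46, 23), (2, 1, 37, 8), (2, 1, 39, 10), (2,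
    1, 45, 22), (2, 1, 47, 24), (2, 2, 34, 7), (2, 2, 37, 9), (2, 2, 40, 13), (2, 2, 41, 16), (2, 2, 46, 25), (2, 3,
    37, 11), (2, 3, 40, 14), (2, 3, 46, 28), (2, 3, 47, 29), (2, 5, 22, 4), (2, 5, 45, 30), (2, 6, 34, 12), (2, 6,
    45, 31), (2, 7, 39, 20), (2, 7, 44, 33), (2, 7, 45, 34), (2, 7, 46, 35), (2, 8, 40, 27), (2, 8, 46, 37), (2, 8,
    47, 38), (2, 9, 47, 39), (2, 10, 34, 19), (4, 10, 41, 17), (2, 10, 44, 36), (2, 11, 47, 40), (2, 15, 39, 43),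
    (2, 15, 47, 42), (2, 18, 47, 44)]

/-- two-generation data of `chevF4` over two elements -/
def twoF4 : TwoCert where
  word := [0, 1, 2, 3]
  s := 3
  l := 0
  steps := [(1, 0, 0, 15), (2, 0, 0, 1), (2, 1, 0, 2), (1, 15, 0, 21), (2, 2, 0, 6), (3, 6, 21, 4), (1, 4, 0, 16),
    (2, 4, 0, 17), (2, 6, 0, 26), (1, 16, 0, 22), (2, 17, 0, 5), (2, 26, 0, 32), (3, 16, 32, 25), (3, 21, 25, 23),
    (3, 21, 32, 30), (3, 22, 26, 24), (3, 22, 32, 31), (2, 30, 0, 42), (2, 31, 0, 43), (2, 32, 0, 47), (3, 21, 43,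
    41), (3, 21, 47, 45), (3, 23, 47, 46), (1, 21, 0, 18), (1, 23, 0, 19), (1, 30, 0, 20), (1, 41, 0, 27), (2, 41,
    0, 8), (2, 42, 0, 9), (2, 43, 0, 14), (1, 45, 0, 28), (2, 45, 0, 33), (1, 46, 0, 29), (2, 46, 0, 38), (2, 47, 0,
    39), (3, 0, 29, 3), (3, 1, 39, 10), (3, 8, 20, 7), (3, 8, 28, 11), (3, 8, 29, 12), (3, 8, 46, 37), (3, 9, 29,
    13), (3, 18, 38, 34), (3, 18, 39, 35), (3, 18, 47, 44), (3, 19, 39, 36), (3, 27, 39, 40)]

/-- two-generation data of `chevE6` -/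
def mainE6 : MainCert where
  word := [0, 1, 2, 3, 4, 5]
  v := [0, 0, 1, 0, 0, 0]
  s := 2
  l := none
  steps := [(0, 2, 0, 17), (0, 17, 0, 31), (0, 31, 0, 33), (0, 33, 0, 62), (0, 62, 0, 68), (0, 68, 0, 53), (0, 53,
    0, 66), (0, 66, 0, 45), (0, 45, 0, 14), (0, 14, 0, 21), (0, 21, 0, 7), (2, 2, 45, 9), (2, 2, 62, 26), (2, 2, 66,
    29), (2, 2, 68, 34), (2, 7, 26, 1), (2, 7, 29, 4), (2, 7, 33, 5), (2, 7, 53, 15), (2, 7, 62, 32), (2, 7, 66,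
    38), (2, 9, 17, 0), (2, 9, 66, 41), (2, 14, 17, 3), (2, 14, 31, 12), (2, 14, 32, 13), (2, 14, 62, 48), (2, 14,
    68, 54), (2, 15, 17, 6), (2, 15, 21, 10), (2, 15, 26, 11), (2, 15, 62, 51), (2, 15, 66, 55), (2, 17, 34, 16),
    (2, 17, 45, 24), (2, 17, 53, 35), (2, 17, 55, 37), (2, 17, 68, 57), (2, 21, 31, 18), (2, 21, 33, 19), (2, 21,
    34, 20), (2, 21, 53, 40), (2, 21, 68, 60), (2, 24, 33, 22), (2, 24, 34, 23), (2, 24, 53, 44), (2, 26, 38, 28),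
    (2, 26, 54, 47), (2, 26, 60, 56), (2, 26, 68, 61), (2, 28, 34, 27), (2, 28, 54, 49), (2, 28, 68, 63), (2, 29,
    68, 65), (2, 31, 35, 30), (2, 31, 41, 36), (2, 31, 44, 42), (2, 31, 48, 46), (2, 31, 53, 50), (2, 31, 55, 52),
    (2, 33, 10, 8), (2, 33, 41, 39), (2, 33, 45, 43), (2, 33, 60, 58), (2, 33, 66, 64), (2, 35, 60, 59), (2, 35, 68,
    67), (2, 37, 68, 69), (2, 39, 24, 25), (2, 39, 69, 70), (2, 46, 70, 71)]

/-- two-generation data of `chevE6` over two elements -/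
def twoE6 : TwoCert where
  word := [0, 1, 2, 3, 4, 5]
  s := 2
  l := 0
  steps := [(1, 0, 0, 1), (2, 0, 0, 4), (1, 1, 0, 16), (2, 4, 0, 10), (2, 10, 0, 41), (1, 16, 0, 30), (3, 10, 30,
    6), (3, 16, 41, 20), (1, 6, 0, 27), (2, 20, 0, 13), (1, 30, 0, 61), (2, 41, 0, 55), (3, 13, 61, 46), (3, 27, 55,
    49), (3, 30, 55, 51), (3, 41, 61, 65), (3, 55, 61, 71), (2, 13, 0, 25), (1, 27, 0, 22), (1, 46, 0, 58), (2, 49,
    0, 44), (2, 51, 0, 23), (1, 65, 0, 8), (3, 8, 27, 2), (3, 8, 46, 11), (3, 8, 49, 14), (3, 8, 61, 33), (3, 8, 65,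
    39), (3, 8, 71, 53), (3, 13, 23, 7), (3, 22, 71, 67), (3, 23, 11, 5), (3, 23, 14, 9), (3, 23, 46, 31), (3, 23,
    49, 36), (3, 23, 51, 42), (3, 23, 53, 43), (3, 23, 55, 45), (3, 23, 71, 68), (3, 25, 71, 70), (3, 27, 43, 34),
    (3, 27, 53, 47), (3, 46, 9, 12), (3, 46, 43, 50), (3, 46, 45, 52), (3, 49, 43, 54), (3, 51, 9, 15), (0, 2, 0,
    17), (0, 5, 0, 26), (0, 8, 0, 28), (0, 9, 0, 3), (0, 11, 0, 56), (0, 12, 0, 19), (0, 14, 0, 21), (0, 15, 0, 29),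
    (0, 33, 0, 62), (0, 34, 0, 35), (0, 39, 0, 37), (0, 43, 0, 48), (0, 47, 0, 59), (0, 50, 0, 64), (0, 53, 0, 66),
    (0, 54, 0, 40), (3, 7, 56, 18), (3, 7, 59, 24), (3, 7, 62, 32), (3, 7, 66, 38), (3, 17, 68, 57), (3, 21, 68,
    60), (3, 28, 68, 63), (3, 37, 68, 69)]

/-- two-generation data of `chevE7` -/
def mainE7 : MainCert where
  word := [0, 1, 2, 3, 4, 5, 6]
  v := [0, 1, 0, 0, 0, 0, 0]
  s := 3
  l := none
  steps := [(0, 3, 0, 8), (0, 8, 0, 34), (0, 34, 0, 54), (0, 54, 0, 57), (0, 57, 0, 100), (0, 100, 0, 110), (0, 110,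
    0, 120), (0, 120, 0, 115), (0, 115, 0, 122), (0, 122, 0, 117), (0, 117, 0, 91), (0, 91, 0, 71), (0, 71, 0, 68),
    (0, 68, 0, 25), (0, 25, 0, 15), (0, 15, 0, 5), (0, 5, 0, 10), (2, 3, 68, 6), (2, 3, 91, 24), (2, 3, 100, 33),
    (2, 3, 120, 58), (2, 5, 54, 2), (2, 5, 91, 26), (2, 5, 100, 36), (2, 5, 122, 67), (2, 6, 100, 37), (2, 6, 110,
    45), (2, 6, 115, 47), (2, 6, 120, 63), (2, 8, 25, 0), (2, 8, 47, 4), (2, 8, 71, 14), (2, 8, 110, 53), (2, 8,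
    115, 60), (2, 10, 57, 7), (2, 10, 71, 16), (2, 10, 110, 55), (2, 10, 117, 65), (2, 14, 55, 9), (2, 14, 58, 11),
    (2, 14, 110, 62), (2, 14, 120, 80), (2, 15, 34, 1), (2, 15, 115, 70), (2, 15, 117, 72), (2, 16, 57, 12), (2, 16,
    58, 13), (2, 16, 100, 51), (2, 16, 110, 64), (2, 16, 120, 82), (2, 24, 53, 17), (2, 24, 55, 19), (2, 24, 62,
    23), (2, 24, 100, 61), (2, 24, 110, 74), (2, 25, 53, 18), (2, 25, 80, 31), (2, 25, 120, 89), (2, 25, 122, 92),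
    (2, 26, 53, 20), (2, 26, 54, 21), (2, 26, 55, 22), (2, 26, 100, 66), (2, 26, 110, 76), (2, 31, 53, 27), (2, 31,
    54, 28), (2, 31, 55, 29), (2, 31, 110, 88), (2, 33, 65, 35), (2, 33, 71, 39), (2, 33, 72, 40), (2, 33, 76, 43),
    (2, 33, 82, 49), (2, 33, 117, 95), (2, 34, 68, 38), (2, 34, 72, 41), (2, 34, 80, 48), (2, 34, 82, 50), (2, 34,
    89, 59), (2, 34, 120, 99), (2, 34, 122, 101), (2, 35, 122, 102), (2, 36, 72, 42), (2, 36, 117, 97), (2, 37, 74,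
    44), (2, 37, 76, 46), (2, 37, 110, 94), (2, 37, 115, 96), (2, 37, 117, 98), (2, 39, 82, 52), (2, 39, 89, 69),
    (2, 39, 102, 93), (2, 39, 120, 103), (2, 39, 122, 106), (2, 40, 122, 107), (2, 41, 120, 105), (2, 41, 122, 108),
    (2, 43, 91, 75), (2, 43, 120, 109), (2, 43, 122, 112), (2, 44, 92, 77), (2, 44, 122, 113), (2, 45, 120, 111),
    (2, 45, 122, 114), (2, 47, 120, 116), (2, 47, 122, 118), (2, 48, 89, 79), (2, 48, 92, 81), (2, 48, 117, 104),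
    (2, 53, 68, 56), (2, 53, 77, 73), (2, 53, 82, 78), (2, 53, 89, 83), (2, 53, 91, 84), (2, 53, 92, 85), (2, 54,
    92, 86), (2, 56, 31, 30), (2, 57, 91, 87), (2, 57, 122, 119), (2, 59, 122, 121), (2, 60, 92, 90), (2, 69, 122,
    123), (2, 73, 31, 32), (2, 73, 123, 124), (2, 93, 124, 125)]

/-- two-generation data of `chevE7` over two elements -/
def twoE7 : TwoCert where
  word := [0, 1, 2, 3, 4, 5, 6]
  s := 3
  l := 0
  steps := [(1, 0, 0, 1), (2, 0, 0, 6), (1, 1, 0, 2), (2, 6, 0, 16), (1, 2, 0, 7), (2, 16, 0, 26), (1, 7, 0, 33),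
    (2, 26, 0, 72), (3, 7, 72, 13), (3, 26, 33, 4), (3, 33, 72, 40), (1, 4, 0, 9), (2, 13, 0, 22), (1, 33, 0, 53),
    (1, 40, 0, 20), (2, 40, 0, 29), (2, 72, 0, 92), (3, 53, 92, 85), (1, 9, 0, 35), (1, 20, 0, 50), (2, 22, 0, 42),
    (2, 29, 0, 46), (1, 53, 0, 99), (1, 85, 0, 105), (3, 22, 99, 55), (3, 22, 105, 65), (3, 42, 53, 36), (3, 42, 55,
    38), (3, 42, 85, 67), (3, 42, 99, 93), (3, 46, 99, 94), (3, 46, 105, 98), (3, 85, 93, 101), (3, 85, 98, 114),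
    (3, 85, 105, 121), (3, 92, 93, 108), (1, 35, 0, 17), (2, 36, 0, 11), (1, 38, 0, 19), (2, 38, 0, 14), (2, 42, 0,
    31), (2, 46, 0, 52), (1, 50, 0, 44), (1, 55, 0, 58), (1, 65, 0, 24), (1, 93, 0, 73), (2, 93, 0, 27), (1, 94, 0,
    83), (2, 94, 0, 48), (1, 98, 0, 32), (2, 98, 0, 81), (1, 99, 0, 109), (1, 101, 0, 111), (1, 105, 0, 75), (1,
    108, 0, 77), (1, 114, 0, 89), (1, 121, 0, 116), (3, 11, 121, 79), (3, 14, 109, 60), (3, 14, 116, 70), (3, 27,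
    116, 87), (3, 36, 116, 96), (3, 48, 116, 103), (3, 67, 87, 90), (3, 67, 103, 106), (3, 67, 109, 112), (3, 67,
    116, 118), (3, 75, 121, 124), (3, 81, 109, 119), (3, 81, 116, 123), (3, 93, 124, 125), (1, 60, 0, 34), (2, 67,
    0, 15), (1, 70, 0, 5), (1, 75, 0, 12), (2, 81, 0, 21), (2, 85, 0, 37), (1, 87, 0, 39), (1, 90, 0, 41), (2, 90,
    0, 63), (2, 92, 0, 68), (1, 96, 0, 18), (2, 101, 0, 8), (1, 103, 0, 43), (1, 106, 0, 45), (2, 106, 0, 28), (2,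
    108, 0, 30), (1, 109, 0, 57), (1, 112, 0, 59), (2, 112, 0, 49), (2, 114, 0, 51), (1, 116, 0, 23), (1, 118, 0,
    25), (2, 118, 0, 82), (1, 119, 0, 95), (2, 119, 0, 54), (2, 121, 0, 56), (1, 123, 0, 47), (2, 123, 0, 86), (1,
    124, 0, 69), (2, 124, 0, 102), (1, 125, 0, 74), (2, 125, 0, 78), (3, 0, 95, 3), (3, 0, 102, 10), (3, 5, 119,
    62), (3, 5, 121, 64), (3, 5, 123, 71), (3, 5, 124, 76), (3, 5, 125, 97), (3, 8, 116, 61), (3, 8, 118, 66), (3,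
    8, 123, 80), (3, 8, 124, 84), (3, 8, 125, 100), (3, 12, 124, 88), (3, 12, 125, 104), (3, 15, 124, 91), (3, 15,
    125, 107), (3, 18, 125, 110), (3, 21, 125, 113), (3, 23, 125, 115), (3, 25, 125, 117), (3, 28, 125, 120), (3,
    30, 125, 122)]

/-- two-generation data of `chevE8` -/
def mainE8 : MainCert where
  word := [0, 1, 2, 3, 4, 5, 6, 7]
  v := [0, 0, 0, 0, 0, 0, 0, 1]
  s := 0
  l := none
  steps := [(0, 0, 0, 15), (0, 15, 0, 21), (0, 21, 0, 36), (0, 36, 0, 78), (0, 78, 0, 105), (0, 105, 0, 169), (0,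
    169, 0, 184), (0, 184, 0, 204), (0, 204, 0, 226), (0, 226, 0, 234), (0, 234, 0, 235), (0, 235, 0, 236), (0, 236,
    0, 237), (0, 237, 0, 238), (0, 238, 0, 239), (0, 239, 0, 224), (0, 224, 0, 218), (0, 218, 0, 203), (0, 203, 0,
    161), (0, 161, 0, 134), (0, 134, 0, 70), (0, 70, 0, 55), (0, 55, 0, 35), (0, 35, 0, 13), (0, 13, 0, 5), (0, 5,
    0, 4), (0, 4, 0, 3), (0, 3, 0, 2), (0, 2, 0, 1), (2, 0, 161, 12), (2, 0, 203, 33), (2, 0, 218, 52), (2, 0, 224,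
    66), (2, 0, 235, 110), (2, 0, 236, 114), (2, 0, 237, 117), (2, 0, 238, 119), (2, 1, 203, 34), (2, 1, 218, 53),
    (2, 1, 224, 67), (2, 1, 234, 106), (2, 1, 235, 111), (2, 1, 236, 115), (2, 1, 237, 118), (2, 1, 239, 120), (2,
    2, 218, 54), (2, 2, 224, 68), (2, 2, 226, 79), (2, 2, 234, 107), (2, 2, 235, 112), (2, 2, 236, 116), (2, 2, 238,
    121), (2, 2, 239, 122), (2, 3, 204, 37), (2, 3, 224, 69), (2, 3, 226, 81), (2, 3, 234, 108), (2, 3, 235, 113),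
    (2, 3, 237, 123), (2, 3, 238, 124), (2, 3, 239, 125), (2, 4, 184, 22), (2, 4, 204, 40), (2, 4, 226, 84), (2, 4,
    234, 109), (2, 4, 236, 126), (2, 4, 237, 127), (2, 4, 238, 128), (2, 4, 239, 129), (2, 5, 169, 16), (2, 5, 184,
    26), (2, 5, 204, 46), (2, 5, 226, 88), (2, 5, 235, 130), (2, 5, 236, 131), (2, 5, 237, 132), (2, 5, 238, 133),
    (2, 12, 106, 8), (2, 12, 111, 9), (2, 12, 115, 10), (2, 12, 118, 11), (2, 12, 169, 38), (2, 12, 184, 57), (2,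
    12, 204, 71), (2, 12, 234, 150), (2, 12, 235, 154), (2, 12, 236, 157), (2, 12, 237, 159), (2, 13, 169, 39), (2,
    13, 184, 58), (2, 13, 204, 72), (2, 13, 234, 151), (2, 13, 235, 155), (2, 13, 236, 158), (2, 13, 237, 160), (2,
    15, 131, 17), (2, 15, 132, 18), (2, 15, 133, 19), (2, 15, 134, 20), (2, 15, 157, 41), (2, 15, 158, 42), (2, 15,
    159, 43), (2, 15, 160, 44), (2, 15, 161, 45), (2, 15, 203, 87), (2, 15, 218, 103), (2, 15, 236, 170), (2, 15,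
    237, 171), (2, 15, 238, 172), (2, 15, 239, 173), (2, 16, 157, 47), (2, 16, 158, 48), (2, 16, 159, 49), (2, 16,
    160, 50), (2, 16, 161, 51), (2, 16, 203, 91), (2, 16, 218, 104), (2, 16, 236, 174), (2, 16, 237, 175), (2, 16,
    238, 176), (2, 16, 239, 177), (2, 17, 203, 92), (2, 17, 237, 178), (2, 17, 238, 179), (2, 17, 239, 180), (2, 18,
    238, 181), (2, 18, 239, 182), (2, 19, 72, 7), (2, 19, 204, 99), (2, 19, 239, 183), (2, 20, 184, 80), (2, 20,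
    204, 100), (2, 20, 226, 162), (2, 21, 70, 6), (2, 21, 92, 14), (2, 21, 127, 23), (2, 21, 128, 24), (2, 21, 129,
    25), (2, 21, 132, 27), (2, 21, 133, 28), (2, 21, 134, 29), (2, 21, 159, 59), (2, 21, 160, 60), (2, 21, 161, 61),
    (2, 21, 182, 82), (2, 21, 183, 83), (2, 21, 203, 96), (2, 21, 224, 136), (2, 21, 237, 185), (2, 21, 238, 186),
    (2, 21, 239, 187), (2, 22, 132, 30), (2, 22, 133, 31), (2, 22, 134, 32), (2, 22, 159, 62), (2, 22, 160, 63), (2,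
    22, 161, 64), (2, 22, 182, 85), (2, 22, 183, 86), (2, 22, 203, 97), (2, 22, 224, 137), (2, 22, 237, 188), (2,
    22, 238, 189), (2, 22, 239, 190), (2, 23, 161, 65), (2, 23, 224, 138), (2, 23, 238, 191), (2, 23, 239, 192), (2,
    24, 224, 139), (2, 24, 239, 193), (2, 25, 224, 140), (2, 25, 226, 163), (2, 26, 182, 89), (2, 26, 183, 90), (2,
    26, 191, 93), (2, 26, 192, 94), (2, 26, 193, 95), (2, 26, 203, 98), (2, 26, 237, 194), (2, 26, 238, 195), (2,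
    26, 239, 196), (2, 27, 238, 197), (2, 27, 239, 198), (2, 28, 239, 199), (2, 29, 226, 164), (2, 30, 238, 200),
    (2, 30, 239, 201), (2, 31, 239, 202), (2, 32, 226, 165), (2, 34, 226, 166), (2, 35, 226, 167), (2, 36, 138, 56),
    (2, 36, 161, 73), (2, 36, 183, 101), (2, 36, 218, 143), (2, 36, 224, 152), (2, 36, 238, 205), (2, 36, 239, 206),
    (2, 37, 161, 74), (2, 37, 183, 102), (2, 37, 218, 144), (2, 37, 224, 153), (2, 37, 238, 207), (2, 37, 239, 208),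
    (2, 38, 218, 145), (2, 38, 239, 209), (2, 39, 218, 146), (2, 40, 161, 75), (2, 40, 209, 141), (2, 40, 224, 156),
    (2, 40, 238, 210), (2, 40, 239, 211), (2, 41, 239, 212), (2, 43, 239, 213), (2, 46, 161, 76), (2, 46, 209, 142),
    (2, 46, 238, 214), (2, 46, 239, 215), (2, 47, 239, 216), (2, 49, 239, 217), (2, 56, 161, 77), (2, 56, 193, 135),
    (2, 56, 209, 147), (2, 56, 212, 148), (2, 56, 213, 149), (2, 56, 238, 219), (2, 56, 239, 220), (2, 57, 239,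
    221), (2, 59, 239, 222), (2, 62, 239, 223), (2, 71, 239, 225), (2, 78, 239, 227), (2, 79, 239, 228), (2, 80,
    203, 168), (2, 81, 239, 229), (2, 84, 239, 230), (2, 88, 239, 231), (2, 93, 239, 232), (2, 99, 239, 233)]

/-- two-generation data of `chevE8` over two elements -/
def twoE8 : TwoCert where
  word := [0, 1, 2, 3, 4, 5, 6, 7]
  s := 1
  l := 0
  steps := [(1, 0, 0, 15), (2, 0, 0, 1), (0, 15, 0, 21), (0, 21, 0, 36), (0, 36, 0, 78), (0, 78, 0, 105), (0, 105,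
    0, 169), (0, 169, 0, 184), (0, 184, 0, 204), (0, 204, 0, 226), (0, 226, 0, 234), (3, 1, 234, 106), (0, 106, 0,
    110), (0, 234, 0, 235), (3, 1, 235, 111), (0, 110, 0, 170), (0, 111, 0, 114), (0, 235, 0, 236), (3, 1, 236,
    115), (0, 114, 0, 171), (0, 115, 0, 117), (0, 170, 0, 185), (0, 236, 0, 237), (3, 1, 237, 118), (0, 117, 0,
    172), (0, 118, 0, 119), (0, 171, 0, 186), (0, 185, 0, 205), (0, 237, 0, 238), (0, 119, 0, 173), (0, 172, 0,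
    187), (0, 186, 0, 206), (0, 205, 0, 227), (0, 238, 0, 239), (3, 1, 239, 120), (0, 120, 0, 66), (0, 173, 0, 136),
    (0, 187, 0, 152), (0, 206, 0, 194), (0, 227, 0, 219), (0, 239, 0, 224), (3, 1, 219, 56), (3, 1, 224, 67), (3,
    106, 224, 220), (0, 56, 0, 99), (0, 66, 0, 103), (0, 67, 0, 52), (0, 136, 0, 143), (0, 152, 0, 178), (0, 194, 0,
    210), (0, 219, 0, 233), (0, 220, 0, 214), (0, 224, 0, 218), (3, 1, 210, 40), (3, 1, 214, 46), (3, 1, 218, 53),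
    (3, 1, 233, 100), (3, 52, 220, 156), (3, 67, 233, 215), (3, 103, 220, 211), (0, 40, 0, 81), (0, 46, 0, 84), (0,
    52, 0, 87), (0, 53, 0, 33), (0, 99, 0, 163), (0, 100, 0, 93), (0, 103, 0, 96), (0, 143, 0, 166), (0, 156, 0,
    181), (0, 178, 0, 191), (0, 210, 0, 229), (0, 211, 0, 197), (0, 214, 0, 230), (0, 215, 0, 200), (0, 218, 0,
    203), (0, 233, 0, 232), (3, 1, 181, 18), (3, 1, 191, 23), (3, 1, 197, 27), (3, 1, 200, 30), (3, 1, 203, 34), (3,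
    1, 229, 82), (3, 1, 230, 85), (3, 1, 232, 94), (3, 33, 211, 127), (3, 33, 215, 132), (3, 33, 220, 138), (3, 40,
    232, 188), (3, 46, 229, 175), (3, 53, 229, 182), (3, 53, 232, 201), (3, 67, 229, 198), (3, 87, 220, 192), (0,
    18, 0, 24), (0, 23, 0, 38), (0, 27, 0, 41), (0, 30, 0, 43), (0, 33, 0, 45), (0, 34, 0, 12), (0, 81, 0, 107), (0,
    82, 0, 57), (0, 84, 0, 108), (0, 85, 0, 59), (0, 87, 0, 61), (0, 93, 0, 141), (0, 94, 0, 71), (0, 96, 0, 73),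
    (0, 127, 0, 124), (0, 132, 0, 128), (0, 138, 0, 145), (0, 163, 0, 147), (0, 166, 0, 150), (0, 175, 0, 189), (0,
    181, 0, 193), (0, 182, 0, 139), (0, 188, 0, 207), (0, 191, 0, 209), (0, 192, 0, 154), (0, 197, 0, 212), (0, 198,
    0, 157), (0, 200, 0, 213), (0, 201, 0, 159), (0, 203, 0, 161), (0, 229, 0, 221), (0, 230, 0, 222), (0, 232, 0,
    225), (3, 1, 124, 3), (3, 1, 128, 4), (3, 1, 139, 6), (3, 1, 145, 7), (3, 1, 150, 8), (3, 1, 154, 9), (3, 1,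
    157, 10), (3, 1, 159, 11), (3, 1, 161, 13), (3, 1, 189, 22), (3, 1, 193, 25), (3, 1, 207, 37), (3, 1, 209, 39),
    (3, 1, 212, 42), (3, 1, 213, 44), (3, 1, 221, 58), (3, 1, 222, 60), (3, 1, 225, 72), (3, 12, 175, 49), (3, 12,
    182, 55), (3, 12, 188, 62), (3, 12, 192, 65), (3, 12, 198, 69), (3, 12, 201, 70), (3, 12, 211, 75), (3, 12, 215,
    76), (3, 12, 220, 77), (3, 18, 209, 102), (3, 18, 222, 123), (3, 18, 225, 144), (3, 23, 212, 109), (3, 23, 221,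
    135), (3, 23, 225, 149), (3, 24, 201, 97), (3, 27, 209, 113), (3, 27, 225, 153), (3, 30, 212, 126), (3, 30, 221,
    137), (3, 34, 209, 125), (3, 34, 212, 129), (3, 34, 221, 140), (3, 34, 225, 160), (3, 38, 160, 74), (3, 38, 215,
    142), (3, 40, 140, 63), (3, 40, 221, 148), (3, 41, 140, 64), (3, 45, 215, 146), (3, 45, 220, 151), (3, 46, 125,
    50), (3, 53, 221, 158), (3, 61, 215, 155), (3, 82, 225, 208), (3, 85, 221, 190), (3, 124, 215, 217), (3, 127,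
    221, 223), (0, 3, 0, 2), (0, 7, 0, 14), (0, 8, 0, 16), (0, 9, 0, 17), (0, 11, 0, 19), (0, 12, 0, 20), (0, 13, 0,
    5), (0, 37, 0, 79), (0, 38, 0, 80), (0, 39, 0, 26), (0, 43, 0, 83), (0, 44, 0, 28), (0, 45, 0, 29), (0, 49, 0,
    86), (0, 50, 0, 31), (0, 55, 0, 35), (0, 59, 0, 101), (0, 60, 0, 47), (0, 61, 0, 48), (0, 65, 0, 51), (0, 69, 0,
    54), (0, 71, 0, 162), (0, 72, 0, 88), (0, 73, 0, 89), (0, 74, 0, 90), (0, 75, 0, 91), (0, 76, 0, 92), (0, 77, 0,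
    104), (0, 102, 0, 95), (0, 108, 0, 112), (0, 113, 0, 116), (0, 123, 0, 121), (0, 124, 0, 122), (0, 125, 0, 68),
    (0, 141, 0, 164), (0, 142, 0, 165), (0, 144, 0, 167), (0, 145, 0, 168), (0, 146, 0, 98), (0, 147, 0, 174), (0,
    149, 0, 176), (0, 150, 0, 177), (0, 151, 0, 130), (0, 153, 0, 179), (0, 154, 0, 180), (0, 155, 0, 131), (0, 159,
    0, 183), (0, 160, 0, 133), (0, 161, 0, 134), (0, 207, 0, 228), (0, 208, 0, 195), (0, 209, 0, 196), (0, 213, 0,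
    199), (0, 217, 0, 202), (0, 222, 0, 216), (0, 225, 0, 231), (3, 1, 202, 32)]

theorem mainG2_chk : mainG2.chk chevG2 auxG2 = true := by decide +kernel

theorem mainB2_chk : mainB2.chk chevB2 auxB2 = true := by decide +kernel

theorem mainD4_chk : mainD4.chk chevD4 auxD4 = true := by decide +kernel

theorem twoD4_chk : twoD4.chk chevD4 auxD4 = true := by decide +kernel

theorem mainF4_chk : mainF4.chk chevF4 auxF4 = true := by decide +kernel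

theorem twoF4_chk : twoF4.chk chevF4 auxF4 = true := by decide +kernel

theorem mainE6_chk : mainE6.chk chevE6 auxE6 = true := by decide +kernel

theorem twoE6_chk : twoE6.chk chevE6 auxE6 = true := by decide +kernel

theorem mainE7_chk : mainE7.chk chevE7 auxE7 = true := by decide +kernel

theorem twoE7_chk : twoE7.chk chevE7 auxE7 = true := by decide +kernel

theorem mainE8_chk : mainE8.chk chevE8 auxE8 = true := by decide +kernel

theorem twoE8_chk : twoE8.chk chevE8 auxE8 = true := by decide +kernel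

end CfsgLib.Lie.Chev.TwoGen
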